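import Mathlib.AlgebraicGeometry.Morphisms.FormallyUnramified
import Mathlib.AlgebraicGeometry.Morphisms.Etale
import Mathlib.AlgebraicGeometry.Morphisms.FlatMono
import Mathlib.AlgebraicGeometry.Morphisms.UniversallyInjective
import Mathlib.AlgebraicGeometry.Morphisms.Separated
import Mathlib.AlgebraicGeometry.Morphisms.IsIso
import Mathlib.AlgebraicGeometry.Morphisms.Integral
import Mathlib.FieldTheory.PurelyInseparable.Basic

/-!
# Equalizers into unramified schemes and graphs into étale schemes
-/

universe u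

open AlgebraicGeometry CategoryTheory Limits

namespace Groth.Agent.EtaleSections

variable {X Y Z S T : Scheme.{u}}

theorem isOpenImmersion_of_etale_universallyInjective (f : X ⟶ Y) [Etale f] [UniversallyInjective f] :
    IsOpenImmersion f := by
  have : Surjective (pullback.diagonal f) := (UniversallyInjective.iff_diagonal f).mp inferInstance
  have : IsIso (pullback.diagonal f) :=
    (isIso_iff_isOpenImmersion_and_surjective _).mpr ⟨inferInstance, inferInstance⟩
  have : Mono f := (pullback.isIso_diagonal_iff f).mp inferInstance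
  exact IsOpenImmersion.of_flat_of_mono f

/-- The set where two maps into an unramified `π` agree. -/
noncomputable def eqLocus (π : X ⟶ S) (u v : Y ⟶ X) (h : u ≫ π = v ≫ π) : Set Y :=
  (pullback.lift u v h : Y ⟶ pullback π π) ⁻¹' Set.range (pullback.diagonal π)

variable (π : X ⟶ S) (u v : Y ⟶ X) (h : u ≫ π = v ≫ π)

theorem isOpen_eqLocus [FormallyUnramified π] [LocallyOfFiniteType π] : IsOpen (eqLocus π u v h) :=
  (pullback.diagonal π).isOpenEmbedding.isOpen_range.preimage (pullback.lift u v h).continuous

theorem isClosed_eqLocus [IsSeparated π] : IsClosed (eqLocus π u v h) :=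
  (pullback.diagonal π).isClosedEmbedding.isClosed_range.preimage (pullback.lift u v h).continuous

theorem range_subset_eqLocus (g : T ⟶ Y) (hg : g ≫ u = g ≫ v) : Set.range g ⊆ eqLocus π u v h := by
  rintro - ⟨t, rfl⟩
  refine ⟨(g ≫ u) t, ?_⟩
  have e : (g ≫ u) ≫ pullback.diagonal π = g ≫ pullback.lift u v h := by
    ext <;> simp [hg, pullback.lift_fst, pullback.lift_snd, pullback.diagonal]
  simpa using congrArg (fun k => k t) e

theorem eq_of_range_subset_eqLocus [FormallyUnramified π] [LocallyOfFiniteType π] (g : T ⟶ Y)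
    (hg : Set.range g ⊆ eqLocus π u v h) : g ≫ u = g ≫ v := by
  have hr : Set.range (g ≫ pullback.lift u v h) ⊆ Set.range (pullback.diagonal π) := by
    rintro - ⟨t, rfl⟩
    rw [Scheme.Hom.comp_apply]
    exact hg ⟨t, rfl⟩
  have hfac := IsOpenImmersion.lift_fac (pullback.diagonal π) (g ≫ pullback.lift u v h) hr
  have h1 := congrArg (· ≫ pullback.fst π π) hfac
  have h2 := congrArg (· ≫ pullback.snd π π) hfac
  rw [Category.assoc, Category.assoc, pullback.diagonal_fst, Category.comp_id, pullback.lift_fst] at h1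
  rw [Category.assoc, Category.assoc, pullback.diagonal_snd, Category.comp_id, pullback.lift_snd] at h2
  exact h1.symm.trans h2

theorem eq_of_eqLocus_eq_univ [FormallyUnramified π] [LocallyOfFiniteType π]
    (hu : eqLocus π u v h = Set.univ) : u = v := by
  simpa using eq_of_range_subset_eqLocus π u v h (𝟙 Y) (hu ▸ Set.subset_univ _)

theorem eq_of_surjective [FormallyUnramified π] [LocallyOfFiniteType π] (g : T ⟶ Y) [Surjective g]
    (hg : g ≫ u = g ≫ v) (h : u ≫ π = v ≫ π) : u = v :=
  eq_of_eqLocus_eq_univ π u v h (Set.univ_subset_iff.mp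
    (g.surjective.range_eq ▸ range_subset_eqLocus π u v h g hg))

theorem eq_of_connected [FormallyUnramified π] [LocallyOfFiniteType π] [IsSeparated π] [ConnectedSpace Y]
    [Nonempty T] (g : T ⟶ Y) (hg : g ≫ u = g ≫ v) (h : u ≫ π = v ≫ π) : u = v :=
  eq_of_eqLocus_eq_univ π u v h (IsClopen.eq_univ ⟨isClosed_eqLocus π u v h, isOpen_eqLocus π u v h⟩
    ((Set.range_nonempty g).mono (range_subset_eqLocus π u v h g hg)))

/-- A section of an unramified morphism is an open immersion. -/
theorem isOpenImmersion_section [FormallyUnramified π] [LocallyOfFiniteType π] (s : S ⟶ X)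
    (hs : s ≫ π = 𝟙 S) : IsOpenImmersion s := by
  have hopen : IsOpen (Set.range s) := by
    have hE : Set.range s = eqLocus π (𝟙 X) (π ≫ s) (by rw [Category.assoc, hs]; simp) := by
      refine Set.Subset.antisymm (range_subset_eqLocus _ _ _ _ s (by simp [reassoc_of% hs])) fun x hx => ?_
      have := eq_of_range_subset_eqLocus π (𝟙 X) (π ≫ s) (by rw [Category.assoc, hs]; simp)
        (X.fromSpecResidueField x) (by rw [Scheme.range_fromSpecResidueField]; simpa using hx)
      exact ⟨π x, by
        have h1 := congrArg (fun k => k (IsLocalRing.closedPoint (X.residueField x))) this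
        have h2 : X.fromSpecResidueField x (IsLocalRing.closedPoint (X.residueField x)) = x :=
          Scheme.fromSpecResidueField_apply _ _
        rw [Category.comp_id] at h1
        have h3 : s (π (X.fromSpecResidueField x (IsLocalRing.closedPoint (X.residueField x)))) =
            X.fromSpecResidueField x (IsLocalRing.closedPoint (X.residueField x)) := h1.symm
        rwa [h2] at h3⟩
    rw [hE]; exact isOpen_eqLocus _ _ _ _
  let U : X.Opens := ⟨Set.range s, hopen⟩
  have hU : Set.range s ⊆ Set.range U.ι := by simp [U]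
  let s' : S ⟶ (U : Scheme.{u}) := IsOpenImmersion.lift U.ι s hU
  have hs' : s' ≫ U.ι = s := IsOpenImmersion.lift_fac _ _ _
  have h1 : s' ≫ U.ι ≫ π = 𝟙 S := by rw [← Category.assoc, hs', hs]
  have h2 : (U.ι ≫ π) ≫ s' = 𝟙 _ := by
    rw [← cancel_mono U.ι, Category.assoc, hs', Category.id_comp, Category.assoc]
    refine (eq_of_range_subset_eqLocus π (𝟙 X) (π ≫ s) (by rw [Category.assoc, hs]; simp) U.ι ?_).symm.trans
      (Category.comp_id _)
    rw [Scheme.Opens.range_ι]
    exact range_subset_eqLocus _ _ _ _ s (by simp [reassoc_of% hs])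
  haveI : IsIso s' := ⟨U.ι ≫ π, h1, h2⟩
  rw [← hs']; infer_instance

theorem isOpenImmersion_graph (p : X ⟶ S) (q : Y ⟶ S) [FormallyUnramified q] [LocallyOfFiniteType q]
    (f : X ⟶ Y) (hf : f ≫ q = p) :
    IsOpenImmersion (pullback.lift (𝟙 X) f ((Category.id_comp p).trans hf.symm) : X ⟶ pullback p q) := by
  have : FormallyUnramified (pullback.fst p q) :=
    MorphismProperty.of_isPullback (P := @FormallyUnramified) (IsPullback.of_hasPullback p q).flip ‹_›
  have : LocallyOfFiniteType (pullback.fst p q) :=
    MorphismProperty.of_isPullback (P := @LocallyOfFiniteType) (IsPullback.of_hasPullback p q).flip ‹_›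
  exact isOpenImmersion_section (pullback.fst p q) _ (pullback.lift_fst _ _ _)

section Graph

variable (p : X ⟶ S) (q : Y ⟶ S) [Etale q] (Γ : (pullback p q).Opens)
  [UniversallyInjective (Γ.ι ≫ pullback.fst p q)] [Surjective (Γ.ι ≫ pullback.fst p q)]

instance isIso_graph_fst : IsIso (Γ.ι ≫ pullback.fst p q) := by
  have : Etale (Γ.ι ≫ pullback.fst p q) := inferInstance
  have := isOpenImmersion_of_etale_universallyInjective (Γ.ι ≫ pullback.fst p q)
  exact (isIso_iff_isOpenImmersion_and_surjective _).mpr ⟨inferInstance, inferInstance⟩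

/-- The morphism whose graph is `Γ`. -/
noncomputable def ofGraph : X ⟶ Y := inv (Γ.ι ≫ pullback.fst p q) ≫ Γ.ι ≫ pullback.snd p q

theorem ofGraph_comp : ofGraph p q Γ ≫ q = p := by
  simp only [ofGraph, Category.assoc, IsIso.inv_comp_eq, pullback.condition]

theorem eq_of_range_subset (σ : Z ⟶ pullback p q) (hσ : Set.range σ ⊆ (Γ : Set ↥(pullback p q))) :
    σ = (σ ≫ pullback.fst p q) ≫ inv (Γ.ι ≫ pullback.fst p q) ≫ Γ.ι := by
  obtain ⟨σ', rfl⟩ : ∃ σ', σ' ≫ Γ.ι = σ :=
    ⟨IsOpenImmersion.lift Γ.ι σ (by rwa [Scheme.Opens.range_ι]), IsOpenImmersion.lift_fac _ _ _⟩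
  simp

theorem graph_eq : (pullback.lift (𝟙 X) (ofGraph p q Γ)
    ((Category.id_comp p).trans (ofGraph_comp p q Γ).symm) : X ⟶ pullback p q) =
    inv (Γ.ι ≫ pullback.fst p q) ≫ Γ.ι := by
  ext <;> simp [ofGraph, pullback.lift_fst, pullback.lift_snd]

theorem range_graph : Set.range (pullback.lift (𝟙 X) (ofGraph p q Γ)
    ((Category.id_comp p).trans (ofGraph_comp p q Γ).symm) : X ⟶ pullback p q) =
    (Γ : Set ↥(pullback p q)) := by
  rw [graph_eq, Scheme.Hom.comp_base, TopCat.coe_comp, Set.range_comp,
    (inv (Γ.ι ≫ pullback.fst p q)).surjective.range_eq, Set.image_univ, Scheme.Opens.range_ι]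

end Graph

theorem universallyInjective_of_comp_surjective (a : Z ⟶ X) (b : X ⟶ Y) [Surjective a]
    [UniversallyInjective (a ≫ b)] : UniversallyInjective b := by
  have hinj := (a ≫ b).injective
  have h3 : Function.Injective (a ≫ b) ∧ ∀ z, ((a ≫ b).residueFieldMap z).hom.IsPurelyInseparable :=
    (List.TFAE.out (tfae_universallyInjective (a ≫ b)) 0 2).mp ‹UniversallyInjective (a ≫ b)›
  have hres := h3.2
  refine (List.TFAE.out (tfae_universallyInjective b) 0 2).mpr
    (?_ : Function.Injective b ∧ ∀ x, (b.residueFieldMap x).hom.IsPurelyInseparable)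
  refine ⟨fun x x' hx => ?_, fun x => ?_⟩
  · obtain ⟨z, rfl⟩ := a.surjective x
    obtain ⟨z', rfl⟩ := a.surjective x'
    rw [hinj (a₁ := z) (a₂ := z') (by simpa using hx)]
  · obtain ⟨z, rfl⟩ := a.surjective x
    have hz := hres z
    rw [Scheme.residueFieldMap_comp] at hz
    algebraize [(b.residueFieldMap (a z)).hom, (a.residueFieldMap z).hom,
      (b.residueFieldMap (a z) ≫ a.residueFieldMap z).hom]
    haveI : IsScalarTower (Y.residueField (b (a z))) (X.residueField (a z)) (Z.residueField z) :=
      IsScalarTower.of_algebraMap_eq fun _ => rfl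
    haveI : IsPurelyInseparable (Y.residueField (b (a z))) (Z.residueField z) := hz
    exact IsPurelyInseparable.tower_bot (Y.residueField (b (a z))) (X.residueField (a z))
      (Z.residueField z)

end Groth.Agent.EtaleSections
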