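import Groth.Agent.EtaleSections.Basic
import Mathlib.CategoryTheory.Comma.Over.Pullback
import Mathlib.AlgebraicGeometry.Morphisms.ClosedImmersion

/-!
# Morphisms into étale schemes and universal homeomorphisms
-/

universe u

open AlgebraicGeometry CategoryTheory Limits

namespace Groth.Agent.EtaleSections

variable {S S' : Scheme.{u}} (g : S' ⟶ S) (X Y : Over S)

theorem injective_pullback_map [Surjective g] [FormallyUnramified X.hom] [LocallyOfFiniteType X.hom] :
    Function.Injective (fun φ : Y ⟶ X => (Over.pullback g).map φ) := by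
  intro φ ψ h
  have h1 := congrArg (fun k : (Over.pullback g).obj Y ⟶ (Over.pullback g).obj X =>
    k.left ≫ pullback.fst X.hom g) h
  simp only [Over.pullback_map_left, pullback.lift_fst] at h1
  have hs : Surjective (pullback.fst Y.hom g) :=
    MorphismProperty.of_isPullback (P := @Surjective) (IsPullback.of_hasPullback Y.hom g).flip ‹_›
  exact Over.OverMorphism.ext (eq_of_surjective X.hom φ.left ψ.left (pullback.fst Y.hom g) h1
    (by rw [Over.w, Over.w]))

theorem surjective_pullback_map [IsIntegralHom g] [UniversallyInjective g] [Surjective g]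
    [Etale X.hom] : Function.Surjective (fun φ : Y ⟶ X => (Over.pullback g).map φ) := by
  intro ψ
  let a : pullback Y.hom g ⟶ Y.left := pullback.fst Y.hom g
  let ψ₁ : pullback Y.hom g ⟶ X.left := ψ.left ≫ pullback.fst X.hom g
  have hψ₁ : ψ₁ ≫ X.hom = a ≫ Y.hom := by
    have h : ψ.left ≫ pullback.snd X.hom g = pullback.snd Y.hom g := Over.w ψ
    simp only [ψ₁, a, Category.assoc, pullback.condition]
    rw [← Category.assoc, h]
  have ha : IsIntegralHom a :=
    MorphismProperty.of_isPullback (P := @IsIntegralHom) (IsPullback.of_hasPullback Y.hom g).flip ‹_›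
  have ha' : UniversallyInjective a :=
    MorphismProperty.of_isPullback (P := @UniversallyInjective) (IsPullback.of_hasPullback Y.hom g).flip ‹_›
  have ha'' : Surjective a :=
    MorphismProperty.of_isPullback (P := @Surjective) (IsPullback.of_hasPullback Y.hom g).flip ‹_›
  -- the graph of `ψ₁` in `Y' ×_S X`
  let γ : pullback Y.hom g ⟶ pullback (a ≫ Y.hom) X.hom :=
    pullback.lift (𝟙 _) ψ₁ ((Category.id_comp _).trans hψ₁.symm)
  have hγ : IsOpenImmersion γ := isOpenImmersion_graph (a ≫ Y.hom) X.hom ψ₁ hψ₁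
  let c : pullback (a ≫ Y.hom) X.hom ⟶ pullback Y.hom X.hom :=
    pullback.map _ _ _ _ a (𝟙 _) (𝟙 _) (by simp) (by simp)
  have hc : IsPullback c (pullback.fst (a ≫ Y.hom) X.hom) (pullback.fst Y.hom X.hom) a := by
    refine IsPullback.of_right (h₁₂ := pullback.snd Y.hom X.hom) (v₁₃ := X.hom) (h₂₂ := Y.hom) ?_
      (by simp [c, pullback.map, pullback.lift_fst]) (IsPullback.of_hasPullback Y.hom X.hom).flip
    simpa [c, pullback.map, pullback.lift_snd] using (IsPullback.of_hasPullback (a ≫ Y.hom) X.hom).flip
  have hci : IsIntegralHom c := MorphismProperty.of_isPullback (P := @IsIntegralHom) hc.flip ha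
  have hcu : UniversallyInjective c :=
    MorphismProperty.of_isPullback (P := @UniversallyInjective) hc.flip ha'
  have hcs : Surjective c := MorphismProperty.of_isPullback (P := @Surjective) hc.flip ha''
  have hopen : IsOpenMap c := by
    have := isHomeomorph_iff_continuous_isClosedMap_bijective.mpr
      ⟨c.continuous, c.isClosedMap, c.injective, c.surjective⟩
    exact this.isOpenMap
  let Γ : (pullback Y.hom X.hom).Opens :=
    ⟨Set.range (γ ≫ c), by
      rw [Scheme.Hom.comp_base, TopCat.coe_comp, Set.range_comp]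
      exact hopen _ γ.isOpenEmbedding.isOpen_range⟩
  have hr : Set.range (γ ≫ c) ⊆ Set.range Γ.ι := by rw [Scheme.Opens.range_ι]; exact subset_rfl
  let σ' : pullback Y.hom g ⟶ (Γ : Scheme.{u}) := IsOpenImmersion.lift Γ.ι (γ ≫ c) hr
  have hσ' : σ' ≫ Γ.ι = γ ≫ c := IsOpenImmersion.lift_fac _ _ _
  have hσs : Surjective σ' := ⟨fun x => by
    obtain ⟨y, hy⟩ := x.2
    refine ⟨y, Γ.ι.injective ?_⟩
    rw [← Scheme.Hom.comp_apply, hσ']
    exact hy⟩
  have hfst : σ' ≫ (Γ.ι ≫ pullback.fst Y.hom X.hom) = a := by
    rw [← Category.assoc, hσ']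
    simp [γ, c, pullback.map, pullback.lift_fst, pullback.lift_fst_assoc]
  have : UniversallyInjective (σ' ≫ (Γ.ι ≫ pullback.fst Y.hom X.hom)) := by rw [hfst]; exact ha'
  have := universallyInjective_of_comp_surjective σ' (Γ.ι ≫ pullback.fst Y.hom X.hom)
  have : Surjective (Γ.ι ≫ pullback.fst Y.hom X.hom) := ⟨fun y => by
    obtain ⟨z, hz⟩ := a.surjective y
    exact ⟨σ' z, by rw [← Scheme.Hom.comp_apply, hfst]; exact hz⟩⟩
  refine ⟨Over.homMk (ofGraph Y.hom X.hom Γ) (ofGraph_comp Y.hom X.hom Γ), Over.OverMorphism.ext ?_⟩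
  have key := eq_of_range_subset Y.hom X.hom Γ (γ ≫ c) subset_rfl
  have h1 := congrArg (· ≫ pullback.snd Y.hom X.hom) key
  simp [γ, c, pullback.map, pullback.lift_fst, pullback.lift_snd, pullback.lift_fst_assoc] at h1
  apply pullback.hom_ext
  · simp only [Over.pullback_map_left, pullback.lift_fst, Over.homMk_left]
    exact h1.symm
  · simp only [Over.pullback_map_left, pullback.lift_snd]
    exact (Over.w ψ).symm

theorem bijective_pullback_map [IsIntegralHom g] [UniversallyInjective g] [Surjective g]
    [Etale X.hom] : Function.Bijective (fun φ : Y ⟶ X => (Over.pullback g).map φ) :=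
  ⟨injective_pullback_map g X Y, surjective_pullback_map g X Y⟩

end Groth.Agent.EtaleSections
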