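import Groth.Agent.EtaleSections.Basic
import Mathlib.AlgebraicGeometry.Morphisms.QuasiFinite
import Mathlib.AlgebraicGeometry.Noetherian
import Mathlib.RingTheory.Unramified.LocalStructure

/-!
# Finiteness of maps into unramified schemes
-/

universe u

open AlgebraicGeometry CategoryTheory Limits

namespace Groth.Agent.EtaleSections

variable {X S Y : Scheme.{u}}

theorem locallyQuasiFinite_of_unramified (π : X ⟶ S) [FormallyUnramified π] [LocallyOfFiniteType π] :
    LocallyQuasiFinite π := by
  refine ⟨fun {U} hU {V} hV e => ?_⟩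
  have h1 : (π.appLE U V e).hom.FiniteType :=
    HasRingHomProperty.appLE (P := @LocallyOfFiniteType) π ‹_› ⟨U, hU⟩ ⟨V, hV⟩ e
  have h2 : (π.appLE U V e).hom.FormallyUnramified :=
    HasRingHomProperty.appLE (P := @FormallyUnramified) π ‹_› ⟨U, hU⟩ ⟨V, hV⟩ e
  algebraize [(π.appLE U V e).hom]
  show Algebra.QuasiFinite _ _
  infer_instance

/-- Sections of an unramified quasi-compact morphism over the spectrum of a field are finite. -/
theorem finite_sections_field (K : Type u) [Field K] {P : Scheme.{u}}
    (f : P ⟶ Spec (CommRingCat.of K)) [FormallyUnramified f] [LocallyOfFiniteType f] [QuasiCompact f] :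
    Finite {s : Spec (CommRingCat.of K) ⟶ P // s ≫ f = 𝟙 _} := by
  have := locallyQuasiFinite_of_unramified f
  let pt : Spec (CommRingCat.of K) := IsLocalRing.closedPoint K
  have hfin : (f ⁻¹' {pt}).Finite := f.finite_preimage_singleton pt
  have : Finite (f ⁻¹' {pt}) := hfin
  refine Finite.of_injective (β := f ⁻¹' {pt})
    (fun s => ⟨s.1 pt, Subsingleton.elim (α := PrimeSpectrum K) _ _⟩) fun s t h => Subtype.ext ?_
  have hs := isOpenImmersion_section f s.1 s.2
  have ht := isOpenImmersion_section f t.1 t.2
  have hr : Set.range s.1 ⊆ Set.range t.1 := by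
    rintro - ⟨z, rfl⟩
    obtain rfl : z = pt := Subsingleton.elim (α := PrimeSpectrum K) _ _
    exact ⟨pt, (congrArg Subtype.val h).symm⟩
  have hfac := IsOpenImmersion.lift_fac t.1 s.1 hr
  have he : IsOpenImmersion.lift t.1 s.1 hr = 𝟙 _ := by
    have := congrArg (· ≫ f) hfac
    rwa [Category.assoc, t.2, Category.comp_id, s.2] at this
  rw [he, Category.id_comp] at hfac
  exact hfac.symm

theorem finite_hom [IsNoetherian Y] (π : X ⟶ S) [FormallyUnramified π] [LocallyOfFiniteType π]
    [QuasiCompact π] [IsSeparated π] (h : Y ⟶ S) : Set.Finite {f : Y ⟶ X | f ≫ π = h} := by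
  classical
  let I := irreducibleComponents Y
  have hI : I.Finite := TopologicalSpace.NoetherianSpace.finite_irreducibleComponents
  have : Finite I := hI
  choose r hr using fun C : I => C.2.1.nonempty
  have hfld : ∀ y : Y, Finite {k : Spec (Y.residueField y) ⟶ X // k ≫ π = Y.fromSpecResidueField y ≫ h} := by
    intro y
    let g : Spec (Y.residueField y) ⟶ S := Y.fromSpecResidueField y ≫ h
    have : FormallyUnramified (pullback.snd π g) :=
      MorphismProperty.of_isPullback (P := @FormallyUnramified) (IsPullback.of_hasPullback π g) ‹_›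
    have : LocallyOfFiniteType (pullback.snd π g) :=
      MorphismProperty.of_isPullback (P := @LocallyOfFiniteType) (IsPullback.of_hasPullback π g) ‹_›
    have : QuasiCompact (pullback.snd π g) :=
      MorphismProperty.of_isPullback (P := @QuasiCompact) (IsPullback.of_hasPullback π g) ‹_›
    have := finite_sections_field (Y.residueField y) (pullback.snd π g)
    refine Finite.of_injective
      (β := {s : Spec (Y.residueField y) ⟶ pullback π g // s ≫ pullback.snd π g = 𝟙 _})
      (fun k => ⟨pullback.lift k.1 (𝟙 _) (by rw [Category.id_comp]; exact k.2), pullback.lift_snd _ _ _⟩)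
      fun k k' he => Subtype.ext ?_
    have h3 := congrArg (fun s => s.1 ≫ pullback.fst π g) he
    simpa [pullback.lift_fst] using h3
  rw [← Set.finite_coe_iff]
  refine Finite.of_injective
    (β := ∀ C : I, {k : Spec (Y.residueField (r C)) ⟶ X // k ≫ π = Y.fromSpecResidueField (r C) ≫ h})
    (fun u C => ⟨Y.fromSpecResidueField (r C) ≫ u.1, by rw [Category.assoc]; exact congrArg _ u.2⟩)
    fun u v he => Subtype.ext ?_
  have huv : u.1 ≫ π = v.1 ≫ π := u.2.trans v.2.symm
  refine eq_of_eqLocus_eq_univ π u.1 v.1 huv (Set.eq_univ_of_forall fun y => ?_)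
  let C : I := ⟨irreducibleComponent y, irreducibleComponent_mem_irreducibleComponents y⟩
  have hC : r C ∈ eqLocus π u.1 v.1 huv := by
    refine range_subset_eqLocus π u.1 v.1 huv (Y.fromSpecResidueField (r C))
      (congrArg Subtype.val (congrFun he C)) ?_
    rw [Scheme.range_fromSpecResidueField]; rfl
  have hsub := IsClopen.connectedComponent_subset
    ⟨isClosed_eqLocus π u.1 v.1 huv, isOpen_eqLocus π u.1 v.1 huv⟩ hC
  refine hsub ?_
  have h4 : irreducibleComponent y ⊆ connectedComponent (r C) :=
    isIrreducible_irreducibleComponent.isConnected.isPreconnected.subset_connectedComponent (hr C)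
  exact h4 mem_irreducibleComponent

end Groth.Agent.EtaleSections
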